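import Mathlib
import Cfsg.Agent.Lib.helper7.CEU.Defs

/-!
# Project CEUO (sub-designer helper3): the ODD case (`od` true, `SU_{2m+1}(q)`, `m ≥ 2`, ALL `q ≥ 2`) of helper7's project CEU (the `n ≥ 4` half of S2089) — definitions

On top of helper7's `CEU/Defs.lean` (`HCs HCl ShortLift LongLift`, `lf`, `cm`, `CL`, `IsCE`) and helper27's `STU` (`SysU`, `Lam`).  In the odd case the SHORT root elements are commutators of the half root
elements (`SysU.hh`: `cm (xl a ξ) (xl b η) = xs a (ng b) (-(ξ.v * star η.v))`), so no third index is needed to lift them: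
* `Kb S h a b ξ η = cm (lf h (xl a ξ)) (lf h (xl (ng b) η))`, a lift of `xs a b (-(ξ.v * star η.v))`; it is bimultiplicative, hence depends only on `ξ.v`, `η.v`, and by a torus trick only on `ξ.v * star η.v`;
* `Xo S h hF hod a b t = Kb S h a b (ofV (-t)) (ofV 1)`: the canonical lift of `xs a b t` (`ofV v` is a chosen element of `Lam F od` with `v`-part `v`);
* `Zq S h a b ξ u = cm (lf h (xl a ξ)) (lf h (xs (ng a) b u))`, a lift of `xs a b (ξ.c * u) * xl (ng b) (act (star u) (bar ξ))` (`SysU.ls`); `Dq L a b ξ u = (L.X a b (ξ.c * u))⁻¹ * Zq S h a b ξ u`;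
  `Do L a b u η = Dq L a b (bar (act (star u)⁻¹ η)) u`, a lift of `xl (ng b) η`, multiplicative in `η`; `Zo L h2 c η = Do L a (ng c) 1 η` for a chosen `a`: the canonical lift of `xl c η`.
* `TorB`, `Tor1`: the torus elements used by the torus tricks (existence: block F of the skeleton).
* `HK L`: the lifted relation `hh` in the form "the commutator of ANY lifts".
* `R1Univ F od Δ`: the universal property of the rank one group `SUm F od` which gives the lifted relation `r1` (used for `q = 2`, where `SU_3(2)` is not perfect).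
-/

set_option autoImplicit false

namespace Cfsg.Agent.Lib.helper3.CEUO

open Cfsg.Agent.Lib.helper15.St2 Cfsg.Agent.Lib.helper7.Ce Cfsg.Agent.Lib.helper3.STC Cfsg.Agent.Lib.Helper27.STU
  Cfsg.Agent.Lib.helper7.CEU

open Cfsg.Agent.Lib.helper7.CEC (I2 I3 I4 U2 U3)

variable {F : Type*} [Field F] [StarRing F] {od : Prop} {ι : Type*} {Γ G : Type*} [Group Γ] [Group G]

/-- in the odd case every `v : F` is the `v`-part of an element of the form parameter group -/
theorem exists_of_v (hF : Hyp F) (hod : od) (v : F) : ∃ ξ : Lam F od, ξ.v = v := by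
  have hx : star (-(v * star v)) = -(v * star v) := by
    rw [star_neg, star_mul', star_star, mul_comm]
  obtain ⟨y, hy⟩ := hF.trace_surj _ hx
  exact ⟨⟨v, y, by rw [hy]; ring, fun h => absurd hod h⟩, rfl⟩

/-- a chosen element of the form parameter group with `v`-part `v` -/
noncomputable def ofV (hF : Hyp F) (hod : od) (v : F) : Lam F od := Classical.choose (exists_of_v hF hod v)

@[simp] theorem ofV_v (hF : Hyp F) (hod : od) (v : F) : (ofV hF hod v : Lam F od).v = v :=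
  Classical.choose_spec (exists_of_v hF hod v)

/-- torus elements which scale `xl a` and fix `xl b` (`ab a ≠ ab b`) -/
def TorB (S : SysU F od ι G) : Prop :=
  ∀ a b : ι ⊕ ι, ab a ≠ ab b → ∃ (g : G) (d : ι ⊕ ι → F) (d0 : F), S.IsMon g 1 d d0 ∧ d a * d0⁻¹ ≠ 1 ∧ d b * d0⁻¹ = 1

/-- torus elements which fix `xs (ng a) b` and scale `xl (ng b)` (`ab a ≠ ab b`) -/
def Tor1 (S : SysU F od ι G) : Prop :=
  ∀ a b : ι ⊕ ι, ab a ≠ ab b → ∃ (g : G) (d : ι ⊕ ι → F) (d0 : F), S.IsMon g 1 d d0 ∧ d (ng a) = d b ∧ d (ng b) * d0⁻¹ ≠ 1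

/-- the commutator of lifts of `xl a ξ` and `xl (ng b) η`: a lift of `xs a b (-(ξ.v * star η.v))` (`SysU.hh` for the pair `(a, ng b)`) -/
noncomputable def Kb (S : SysU F od ι G) {σ : Γ →* G} (h : IsCE σ) (a b : ι ⊕ ι) (ξ η : Lam F od) : Γ :=
  cm (lf h (S.xl a ξ)) (lf h (S.xl (ng b) η))

/-- the canonical lift of the short root element `xs a b t` in the odd case -/
noncomputable def Xo (S : SysU F od ι G) {σ : Γ →* G} (h : IsCE σ) (hF : Hyp F) (hod : od) (a b : ι ⊕ ι) (t : F) : Γ :=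
  Kb S h a b (ofV hF hod (-t)) (ofV hF hod 1)

/-- the commutator of lifts of `xl a ξ` and `xs (ng a) b u`: a lift of `xs a b (ξ.c * u) * xl (ng b) (act (star u) (bar ξ))` (`SysU.ls`) -/
noncomputable def Zq (S : SysU F od ι G) {σ : Γ →* G} (h : IsCE σ) (a b : ι ⊕ ι) (ξ : Lam F od) (u : F) : Γ :=
  cm (lf h (S.xl a ξ)) (lf h (S.xs (ng a) b u))

variable {S : SysU F od ι G} {σ : Γ →* G} {h : IsCE σ}

/-- the lifted relation `hh`: the commutator of ANY lifts of `xl a ξ` and `xl b η` is the canonical lift of `xs a (ng b) (-(ξ.v * star η.v))` -/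
def HK (L : ShortLift S h) : Prop :=
  ∀ a b : ι ⊕ ι, ab a ≠ ab b → ∀ (ξ η : Lam F od) (p q : Γ), σ p = S.xl a ξ → σ q = S.xl b η →
    cm p q = L.X a (ng b) (-(ξ.v * star η.v))

/-- a lift of `xl (ng b) (act (star u) (bar ξ))` -/
noncomputable def Dq (L : ShortLift S h) (a b : ι ⊕ ι) (ξ : Lam F od) (u : F) : Γ :=
  (L.X a b (ξ.c * u))⁻¹ * Zq S h a b ξ u

/-- a lift of `xl (ng b) η` (`u ≠ 0`), multiplicative in `η` -/
noncomputable def Do (L : ShortLift S h) (a b : ι ⊕ ι) (u : F) (η : Lam F od) : Γ :=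
  Dq L a b (Lam.bar (Lam.act (star u)⁻¹ η)) u

open Classical in
/-- the canonical lift of the half root element `xl c η`, through a chosen auxiliary index -/
noncomputable def Zo (L : ShortLift S h) (h2 : I2 ι) (c : ι ⊕ ι) (η : Lam F od) : Γ :=
  Do L (Classical.choose (h2 (ng c))) (ng c) 1 η

/-- the scalar of the action of the long Weyl element `wl a ξ` on `xl a`, `xl (ng a)`: `(star c)⁻¹ / d0l ξ = -(c / (star c)²)` resp. `c / d0l ξ = -(c² / star c)` -/
def sW (ξ : Lam F od) : F := (star ξ.c)⁻¹ * (d0l ξ)⁻¹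

/-- the second scalar -/
def sW' (ξ : Lam F od) : F := ξ.c * (d0l ξ)⁻¹

/-- the universal property of the rank one group with respect to two multiplicative families satisfying the Weyl relations -/
def R1Univ (F : Type*) [Field F] [StarRing F] (od : Prop) (Δ : Type*) [Group Δ] : Prop :=
  ∀ (X Y : Lam F od → Δ), (∀ ξ η, X (ξ * η) = X ξ * X η) → (∀ ξ η, Y (ξ * η) = Y ξ * Y η) →
    (∀ ξ η : Lam F od, ξ.c ≠ 0 → cj (X ξ * Y (Lam.mu ξ) * X (Lam.nu ξ)) (X η) = Y (Lam.act (sW ξ) η)) →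
    (∀ ξ η : Lam F od, ξ.c ≠ 0 → cj (X ξ * Y (Lam.mu ξ) * X (Lam.nu ξ)) (Y η) = X (Lam.act (sW' ξ) η)) →
    (∀ ξ η : Lam F od, ξ.c ≠ 0 → cj (Y ξ * X (Lam.mu ξ) * Y (Lam.nu ξ)) (Y η) = X (Lam.act (sW ξ) η)) →
    (∀ ξ η : Lam F od, ξ.c ≠ 0 → cj (Y ξ * X (Lam.mu ξ) * Y (Lam.nu ξ)) (X η) = Y (Lam.act (sW' ξ) η)) →
    ∃ ρ : ↥(SUm F od) →* Δ, ∀ ξ, ρ (XpU ξ) = X ξ ∧ ρ (XmU ξ) = Y ξ

end Cfsg.Agent.Lib.helper3.CEUO
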